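import Cfsg.Prelude.Def_Classical
import Cfsg.Prelude.Def_LieRecognition
import Cfsg.Agent.Lib.HermCount.Field
import Cfsg.Agent.Lib.Classical.HermOrders
import Cfsg.Agent.Lib.TwoFusion.SylowForms
import Mathlib

/-!
# The Sylow 2-subgroup of `PSU₃(q)`, `q` even: explicit model and Suzuki property
-/

set_option autoImplicit false
set_option linter.unusedSectionVars false

open scoped MatrixGroups commutatorElement

namespace Cfsg.Agent.Lib.SuzukiTwo.PSU3

open Cfsg.Agent.Lib.HermCount.Field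

/-- The carrier of the model of the Sylow `2`-subgroup of `SU₃(q)`. -/
def H (F : Type*) [Field F] (q : ℕ) : Type _ := {p : F × F // p.2 + p.2 ^ q = p.1 ^ (q + 1)}

variable {F : Type*} [Field F] [Fintype F] {q : ℕ}

variable [hf : Fact (Fintype.card F = q ^ 2)] [h2F : Fact ((2 : F) = 0)]

lemma two0 : (2 : F) = 0 := h2F.out

lemma pw (x : F) : (x ^ q) ^ q = x := frob_frob hf.out x

lemma ad (x y : F) : (x + y) ^ q = x ^ q + y ^ q := frob_add hf.out x y

lemma sub_eq_add' (x y : F) : x - y = x + y := by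
  have h2 := two0 (F := F)
  linear_combination - y * h2

lemma eq_of_add_eq_zero' {x y : F} (h : x + y = 0) : x = y := by
  have h2 := two0 (F := F)
  linear_combination h - y * h2

lemma sq_inj {x y : F} (h : x ^ 2 = y ^ 2) : x = y := by
  have h2 := two0 (F := F)
  have h3 : (x + y) ^ 2 = 0 := by linear_combination h + (x * y + y ^ 2) * h2
  exact eq_of_add_eq_zero' (pow_eq_zero_iff (n := 2) (by norm_num) |>.mp h3)

lemma exists_sqrt (x : F) : ∃ y : F, y ^ 2 = x := by
  have hinj : Function.Injective (fun y : F => y ^ 2) := fun a b h => sq_inj h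
  exact (Finite.injective_iff_surjective.mp hinj) x

noncomputable instance : Group (H F q) where
  mul x y := ⟨(x.1.1 + y.1.1, x.1.2 + y.1.2 + x.1.1 * y.1.1 ^ q), by
    obtain ⟨⟨a, c⟩, hx⟩ := x
    obtain ⟨⟨a', c'⟩, hy⟩ := y
    simp only at hx hy ⊢
    have e1 : (a + a') ^ (q + 1) = (a + a') * (a ^ q + a' ^ q) := by rw [← ad]; ring
    rw [e1, ad, ad, mul_pow, pw]
    linear_combination hx + hy⟩
  one := ⟨(0, 0), by
    have := two_le hf.out
    simp only
    rw [zero_pow (by omega), zero_pow (by omega)]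
    simp⟩
  inv x := ⟨(x.1.1, x.1.2 + x.1.1 ^ (q + 1)), by
    obtain ⟨⟨a, c⟩, hx⟩ := x
    simp only at hx ⊢
    have h2 := two0 (F := F)
    have e : (a ^ (q + 1)) ^ q = a ^ (q + 1) := by
      rw [pow_succ, mul_pow, pw]; ring
    rw [ad, e]
    linear_combination hx + a ^ (q + 1) * h2⟩
  mul_assoc x y z := by
    obtain ⟨⟨a, c⟩, hx⟩ := x
    obtain ⟨⟨a', c'⟩, hy⟩ := y
    obtain ⟨⟨a'', c''⟩, hz⟩ := z
    apply Subtype.ext
    change (a + a' + a'', c + c' + a * a' ^ q + c'' + (a + a') * a'' ^ q) =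
      (a + (a' + a''), c + (c' + c'' + a' * a'' ^ q) + a * (a' + a'') ^ q)
    rw [ad]
    ext <;> simp only <;> ring
  one_mul x := by
    obtain ⟨⟨a, c⟩, hx⟩ := x
    apply Subtype.ext
    change ((0 : F) + a, (0 : F) + c + 0 * a ^ q) = (a, c)
    simp
  mul_one x := by
    obtain ⟨⟨a, c⟩, hx⟩ := x
    apply Subtype.ext
    change (a + (0 : F), c + (0 : F) + a * (0 : F) ^ q) = (a, c)
    have := two_le hf.out
    rw [zero_pow (by omega)]
    simp
  inv_mul_cancel x := by
    obtain ⟨⟨a, c⟩, hx⟩ := x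
    apply Subtype.ext
    change (a + a, c + a ^ (q + 1) + c + a * a ^ q) = ((0 : F), (0 : F))
    have h2 := two0 (F := F)
    ext
    · simp only; linear_combination a * h2
    · simp only; linear_combination (c + a ^ (q + 1)) * h2

@[simp] lemma mul_fst (x y : H F q) : (x * y).1.1 = x.1.1 + y.1.1 := rfl
@[simp] lemma mul_snd (x y : H F q) : (x * y).1.2 = x.1.2 + y.1.2 + x.1.1 * y.1.1 ^ q := rfl
@[simp] lemma one_fst : (1 : H F q).1.1 = 0 := rfl
@[simp] lemma one_snd : (1 : H F q).1.2 = 0 := rfl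
@[simp] lemma inv_fst (x : H F q) : (x⁻¹).1.1 = x.1.1 := rfl
@[simp] lemma inv_snd (x : H F q) : (x⁻¹).1.2 = x.1.2 + x.1.1 ^ (q + 1) := rfl

lemma H_ext {x y : H F q} (h1 : x.1.1 = y.1.1) (h2 : x.1.2 = y.1.2) : x = y :=
  Subtype.ext (Prod.ext h1 h2)

instance : Finite (H F q) := by
  unfold H
  infer_instance

/-- The matrix of an element. -/
def U (q : ℕ) (a c : F) : Matrix (Fin 3) (Fin 3) F :=
  !![1 + c, c, a; c, 1 + c, a; a ^ q, a ^ q, 1]

lemma det_U (a c : F) : (U q a c).det = 1 := by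
  have h2 := two0 (F := F)
  rw [U, Matrix.det_fin_three]
  simp
  linear_combination (c - a ^ q * a) * h2

lemma U_mul (a c a' c' : F) : U q a c * U q a' c' = U q (a + a') (c + c' + a * a' ^ q) := by
  have h2 := two0 (F := F)
  have e := ad (q := q) a a'
  ext i j
  fin_cases i <;> fin_cases j <;>
    simp [U, Matrix.mul_apply, Fin.sum_univ_three, e]
  · linear_combination (c * c') * h2
  · linear_combination (c * c') * h2
  · linear_combination (c * a') * h2
  · linear_combination (c * c') * h2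
  · linear_combination (c * c') * h2
  · linear_combination (c * a') * h2
  · linear_combination (a ^ q * c') * h2
  · linear_combination (a ^ q * c') * h2
  · linear_combination (a ^ q * a') * h2

lemma U_herm (a c : F) (h : c + c ^ q = a ^ (q + 1)) (u v : Fin 3 → F) :
    Cfsg.hermForm 3 F q ((U q a c).mulVec u) ((U q a c).mulVec v) = Cfsg.hermForm 3 F q u v := by
  have h2 := two0 (F := F)
  have hB : (a ^ q) ^ q = a := pw a
  simp only [Cfsg.hermForm, Fin.sum_univ_three, U, Matrix.mulVec, dotProduct, Matrix.of_apply,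
    Matrix.cons_val', Matrix.cons_val_zero, Matrix.cons_val_one, Matrix.cons_val_two,
    Matrix.empty_val', Matrix.cons_val_fin_one, Matrix.head_cons, Matrix.tail_cons]
  simp only [ad, mul_pow, one_pow]
  norm_num
  rw [hB]
  linear_combination ((u 0 + u 1) * (v 0 ^ q + v 1 ^ q)) * h +
    ((u 0 + u 1) * (v 0 ^ q + v 1 ^ q) * a ^ (q + 1) + a ^ q * (u 0 + u 1) * v 2 ^ q +
      a * u 2 * (v 0 ^ q + v 1 ^ q) +
      (c * (u 0 + u 1) + a * u 2) * (c ^ q * (v 0 ^ q + v 1 ^ q) + a ^ q * v 2 ^ q)) * h2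

/-- The embedding of the model into `SU₃(q)`. -/
def ι : H F q →* Cfsg.SU 3 F q where
  toFun x := ⟨⟨U q x.1.1 x.1.2, det_U _ _⟩, fun u v => U_herm _ _ x.2 u v⟩
  map_one' := by
    apply Subtype.ext
    apply Subtype.ext
    have h2 := two0 (F := F)
    change U q (0 : F) 0 = 1
    have := two_le hf.out
    ext i j
    fin_cases i <;> fin_cases j <;> simp [U, zero_pow (show q ≠ 0 by omega)]
  map_mul' x y := by
    apply Subtype.ext
    apply Subtype.ext
    change U q (x.1.1 + y.1.1) (x.1.2 + y.1.2 + x.1.1 * y.1.1 ^ q) = U q x.1.1 x.1.2 * U q y.1.1 y.1.2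
    rw [U_mul]

lemma ι_injective : Function.Injective (ι (F := F) (q := q)) := by
  intro x y hxy
  have h : U q x.1.1 x.1.2 = U q y.1.1 y.1.2 := by
    have := congrArg (fun z : Cfsg.SU 3 F q => (z.1.1 : Matrix (Fin 3) (Fin 3) F)) hxy
    exact this
  apply H_ext
  · simpa [U] using congrFun (congrFun h 0) 2
  · simpa [U] using congrFun (congrFun h 0) 1

variable (F q) in
/-- The additive trace. -/
noncomputable def T : F →+ F where
  toFun x := x + x ^ q
  map_zero' := by
    have := two_le hf.out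
    simp [zero_pow (show q ≠ 0 by omega)]
  map_add' x y := by rw [ad]; ring

lemma T_apply (x : F) : T F q x = x + x ^ q := rfl

lemma frob_eq_of_T (c : F) (hc : c + c ^ q = 0) : c ^ q = c := by
  have h2 := two0 (F := F)
  linear_combination hc - c * h2

lemma T_of_frob (c : F) (hc : c ^ q = c) : c + c ^ q = 0 := by
  have h2 := two0 (F := F)
  rw [hc]
  linear_combination c * h2

lemma T_range_eq_ker : (T F q).range = (T F q).ker := by
  ext t
  rw [AddMonoidHom.mem_range, AddMonoidHom.mem_ker, T_apply]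
  constructor
  · rintro ⟨x, rfl⟩
    rw [T_apply, ad, pw]
    have h2 := two0 (F := F)
    linear_combination (x + x ^ q) * h2
  · intro ht
    obtain ⟨s, hs⟩ := exists_trace hf.out t (frob_eq_of_T t ht)
    exact ⟨s, hs⟩

lemma card_ker : Nat.card (T F q).ker = q := by
  have h1 := (T F q).ker.card_mul_index
  rw [AddSubgroup.index_ker, T_range_eq_ker, Nat.card_eq_fintype_card (α := F), hf.out] at h1
  have h3 : Nat.card (T F q).ker ^ 2 = q ^ 2 := by rw [pow_two, h1]
  exact Nat.pow_left_injective (n := 2) (by norm_num) h3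

lemma exists_sec (a : F) : ∃ s : F, s + s ^ q = a ^ (q + 1) := by
  apply exists_trace hf.out
  rw [pow_succ, mul_pow, pw]; ring

/-- Section of `H → F`. -/
noncomputable def sec (q : ℕ) [Fact (Fintype.card F = q ^ 2)] (a : F) : F :=
  (exists_sec (q := q) a).choose

lemma sec_spec (a : F) : sec q a + sec q a ^ q = a ^ (q + 1) := (exists_sec (q := q) a).choose_spec

/-- `H ≃ F × K`. -/
noncomputable def equivProd : H F q ≃ F × (T F q).ker where
  toFun x := (x.1.1, ⟨x.1.2 + sec q x.1.1, by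
    have h2 := two0 (F := F)
    rw [AddMonoidHom.mem_ker, T_apply, ad]
    linear_combination x.2 + sec_spec (q := q) x.1.1 + x.1.1 ^ (q + 1) * h2⟩)
  invFun p := ⟨(p.1, p.2.1 + sec q p.1), by
    have h2 := two0 (F := F)
    have hk : p.2.1 + p.2.1 ^ q = 0 := p.2.2
    simp only
    rw [ad]
    linear_combination hk + sec_spec (q := q) p.1⟩
  left_inv x := by
    have h2 := two0 (F := F)
    apply H_ext
    · rfl
    · change x.1.2 + sec q x.1.1 + sec q x.1.1 = x.1.2
      linear_combination sec q x.1.1 * h2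
  right_inv p := by
    have h2 := two0 (F := F)
    obtain ⟨a, c, hc⟩ := p
    apply Prod.ext
    · rfl
    · apply Subtype.ext
      change c + sec q a + sec q a = c
      linear_combination sec q a * h2

lemma card_H : Nat.card (H F q) = q ^ 3 := by
  rw [Nat.card_congr (equivProd (F := F)), Nat.card_prod, card_ker, Nat.card_eq_fintype_card, hf.out]
  ring

lemma mem_center_H (x : H F q) : x ∈ Subgroup.center (H F q) ↔ x.1.1 = 0 := by
  rw [Subgroup.mem_center_iff]
  constructor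
  · intro h
    by_contra ha
    obtain ⟨w, hw⟩ := exists_frob_ne (hf.out)
    let y : H F q := ⟨(x.1.1 * w, sec q (x.1.1 * w)), sec_spec _⟩
    have h1 := h y
    have h2 : (y * x).1.2 = (x * y).1.2 := by rw [h1]
    simp only [mul_snd] at h2
    have h3 : x.1.1 * w * x.1.1 ^ q = x.1.1 * (x.1.1 * w) ^ q := by
      change y.1.2 + x.1.2 + x.1.1 * w * x.1.1 ^ q = x.1.2 + y.1.2 + x.1.1 * (x.1.1 * w) ^ q at h2
      linear_combination h2
    apply hw
    have ha5 : x.1.1 ^ (q + 1) ≠ 0 := pow_ne_zero _ ha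
    apply mul_left_cancel₀ ha5
    linear_combination - h3
  · intro h y
    have := two_le hf.out
    apply H_ext
    · simp [h, add_comm]
    · simp [h, zero_pow (show q ≠ 0 by omega)]
      ring

/-- The centre of `H` is the kernel of `T`. -/
noncomputable def centerEquiv : Subgroup.center (H F q) ≃ (T F q).ker where
  toFun z := ⟨z.1.1.2, by
    have h := (mem_center_H z.1).mp z.2
    have h3 := z.1.2
    rw [AddMonoidHom.mem_ker, T_apply, h3, h]
    simp⟩
  invFun c := ⟨⟨(0, c.1), by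
    have h : c.1 + c.1 ^ q = 0 := (AddMonoidHom.mem_ker).mp c.2
    simpa using h⟩, (mem_center_H _).mpr rfl⟩
  left_inv z := by
    apply Subtype.ext
    apply H_ext
    · exact ((mem_center_H z.1).mp z.2).symm
    · rfl
  right_inv c := rfl

lemma card_center_H : Nat.card (Subgroup.center (H F q)) = q := by
  rw [Nat.card_congr (centerEquiv (F := F)), card_ker]

/-- Involutions. -/
lemma invol_iff (x : H F q) : x * x = 1 ↔ x.1.1 = 0 := by
  have h2 := two0 (F := F)
  have := two_le hf.out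
  constructor
  · intro h
    have h1 : (x * x).1.2 = 0 := by rw [h]; rfl
    simp only [mul_snd] at h1
    have h3 : x.1.1 ^ (q + 1) = 0 := by linear_combination h1 - x.1.2 * h2
    exact pow_eq_zero_iff (by omega) |>.mp h3
  · intro h
    apply H_ext
    · simp only [mul_fst, one_fst, h]; simp
    · simp only [mul_snd, one_snd, h]
      linear_combination x.1.2 * h2

lemma fix_of_invol (x : H F q) (h : x.1.1 = 0) : x.1.2 ^ q = x.1.2 := by
  have := two_le hf.out
  apply frob_eq_of_T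
  have := x.2
  rw [h, zero_pow (by omega)] at this
  exact this

lemma one_iff (x : H F q) (h : x.1.1 = 0) : x = 1 ↔ x.1.2 = 0 := by
  constructor
  · rintro rfl; rfl
  · intro h'
    exact H_ext h h'

/-- The scaling subgroup `𝔽_q^×`. -/
def L (F : Type*) [Field F] (q : ℕ) : Subgroup Fˣ where
  carrier := {l | l ^ q = l}
  mul_mem' {a b} ha hb := by
    simp only [Set.mem_setOf_eq] at ha hb ⊢
    rw [mul_pow, ha, hb]
  one_mem' := by simp
  inv_mem' {a} ha := by
    simp only [Set.mem_setOf_eq] at ha ⊢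
    rw [inv_pow, ha]

omit hf h2F in
lemma L_coe (l : L F q) : ((l.1 : F)) ^ q = l.1 := by
  have h : l.1 ^ q = l.1 := l.2
  have := congrArg (fun u : Fˣ => (u : F)) h
  simpa using this

omit [Fintype F] hf h2F in
lemma exists_L [Fintype F] [Fact (Fintype.card F = q ^ 2)] [Fact ((2 : F) = 0)] (t : F) (ht : t ≠ 0) (htq : t ^ q = t) :
    ∃ l : L F q, ((l.1 : F)) ^ 2 = t := by
  obtain ⟨y, hy⟩ := exists_sqrt (F := F) t
  have hy0 : y ≠ 0 := by
    rintro rfl
    apply ht
    rw [← hy]; simp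
  refine ⟨⟨Units.mk0 y hy0, ?_⟩, hy⟩
  change Units.mk0 y hy0 ^ q = Units.mk0 y hy0
  apply Units.ext
  simp only [Units.val_pow_eq_pow_val, Units.val_mk0]
  apply sq_inj (F := F)
  rw [← pow_mul, mul_comm, pow_mul, hy, htq]

/-- The diagonal automorphism. -/
noncomputable def dAut (l : L F q) : H F q ≃* H F q where
  toFun x := ⟨((l.1 : F) * x.1.1, (l.1 : F) ^ 2 * x.1.2), by
    have h := x.2
    have hl := L_coe l
    have e1 : ((l.1 : F) ^ 2) ^ q = (l.1 : F) ^ 2 := by rw [← pow_mul, mul_comm, pow_mul, hl]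
    have e2 : (l.1 : F) ^ (q + 1) = (l.1 : F) ^ 2 := by rw [pow_succ, hl]; ring
    simp only
    rw [mul_pow, mul_pow, e1, e2]
    linear_combination (l.1 : F) ^ 2 * h⟩
  invFun x := ⟨(((l⁻¹ : L F q).1 : F) * x.1.1, ((l⁻¹ : L F q).1 : F) ^ 2 * x.1.2), by
    have h := x.2
    have hl := L_coe (l⁻¹)
    have e1 : (((l⁻¹ : L F q).1 : F) ^ 2) ^ q = ((l⁻¹ : L F q).1 : F) ^ 2 := by rw [← pow_mul, mul_comm, pow_mul, hl]
    have e2 : ((l⁻¹ : L F q).1 : F) ^ (q + 1) = ((l⁻¹ : L F q).1 : F) ^ 2 := by rw [pow_succ, hl]; ring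
    simp only
    rw [mul_pow, mul_pow, e1, e2]
    linear_combination ((l⁻¹ : L F q).1 : F) ^ 2 * h⟩
  left_inv x := by
    have hl : ((l⁻¹ : L F q).1 : F) * (l.1 : F) = 1 := by
      have := congrArg (fun u : L F q => ((u.1 : Fˣ) : F)) (inv_mul_cancel l)
      simpa using this
    apply H_ext
    · change ((l⁻¹ : L F q).1 : F) * ((l.1 : F) * x.1.1) = x.1.1
      rw [← mul_assoc, hl, one_mul]
    · change ((l⁻¹ : L F q).1 : F) ^ 2 * ((l.1 : F) ^ 2 * x.1.2) = x.1.2
      rw [← mul_assoc, ← mul_pow, hl, one_pow, one_mul]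
  right_inv x := by
    have hl : (l.1 : F) * ((l⁻¹ : L F q).1 : F) = 1 := by
      have := congrArg (fun u : L F q => ((u.1 : Fˣ) : F)) (mul_inv_cancel l)
      simpa using this
    apply H_ext
    · change (l.1 : F) * (((l⁻¹ : L F q).1 : F) * x.1.1) = x.1.1
      rw [← mul_assoc, hl, one_mul]
    · change (l.1 : F) ^ 2 * (((l⁻¹ : L F q).1 : F) ^ 2 * x.1.2) = x.1.2
      rw [← mul_assoc, ← mul_pow, hl, one_pow, one_mul]
  map_mul' x y := by
    apply H_ext
    · change (l.1 : F) * (x.1.1 + y.1.1) = (l.1 : F) * x.1.1 + (l.1 : F) * y.1.1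
      ring
    · change (l.1 : F) ^ 2 * (x.1.2 + y.1.2 + x.1.1 * y.1.1 ^ q) =
        (l.1 : F) ^ 2 * x.1.2 + (l.1 : F) ^ 2 * y.1.2 + (l.1 : F) * x.1.1 * ((l.1 : F) * y.1.1) ^ q
      rw [mul_pow, L_coe]
      ring

lemma dAut_fst (l : L F q) (x : H F q) : (dAut l x).1.1 = (l.1 : F) * x.1.1 := rfl
lemma dAut_snd (l : L F q) (x : H F q) : (dAut l x).1.2 = (l.1 : F) ^ 2 * x.1.2 := rfl

/-- The homomorphism `𝔽_q^× → Aut H`. -/
noncomputable def dHom : L F q →* MulAut (H F q) where
  toFun := dAut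
  map_one' := by
    ext x
    apply H_ext
    · change ((1 : L F q).1 : F) * x.1.1 = x.1.1
      simp
    · change ((1 : L F q).1 : F) ^ 2 * x.1.2 = x.1.2
      simp
  map_mul' a b := by
    ext x
    apply H_ext
    · change ((a * b).1 : F) * x.1.1 = (a.1 : F) * ((b.1 : F) * x.1.1)
      simp [mul_assoc]
    · change ((a * b).1 : F) ^ 2 * x.1.2 = (a.1 : F) ^ 2 * ((b.1 : F) ^ 2 * x.1.2)
      simp [mul_pow, mul_assoc]

/-- Central elements attached to the kernel of the trace. -/
noncomputable def ofKer (u : (T F q).ker) : H F q := ⟨((0 : F), u.1), by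
  have : u.1 + u.1 ^ q = 0 := AddMonoidHom.mem_ker.mp u.2
  simpa using this⟩

/-- The model is a Suzuki 2-group when `q` is at least `4` and a power of `2`. -/
theorem isSuzuki_H {n : ℕ} (hq : q = 2 ^ n) (hn : 2 ≤ n) : Cfsg.IsSuzukiTwoGroup (H F q) := by
  refine ⟨inferInstance, ?_, ?_, ?_, ?_⟩
  · apply IsPGroup.of_card (n := n * 3)
    rw [card_H, hq, pow_mul]
  · obtain ⟨w, hw⟩ := exists_frob_ne (hf.out : Fintype.card F = q ^ 2)
    refine ⟨⟨(1, sec q 1), sec_spec 1⟩, ⟨(w, sec q w), sec_spec w⟩, ?_⟩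
    intro h
    have h1 : sec q (1 : F) + sec q w + 1 * w ^ q = sec q w + sec q 1 + w * 1 ^ q :=
      congrArg (fun z : H F q => z.1.2) h
    rw [one_mul, one_pow, mul_one] at h1
    apply hw
    exact add_left_cancel (a := sec q (1 : F) + sec q w) (by linear_combination h1)
  · have hq4 : 4 ≤ q := by
      rw [hq]
      calc 4 = 2 ^ 2 := by norm_num
        _ ≤ 2 ^ n := Nat.pow_le_pow_right (by norm_num) hn
    have hc : 2 < Nat.card (T F q).ker := by rw [card_ker]; omega
    have : Finite (T F q).ker := inferInstance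
    classical
    haveI := Fintype.ofFinite (T F q).ker
    rw [Nat.card_eq_fintype_card, Fintype.two_lt_card_iff] at hc
    obtain ⟨a, b, c, hab, hac, hbc⟩ := hc
    -- two nonzero elements of the kernel
    have key : ∃ s t : (T F q).ker, s ≠ t ∧ s ≠ 0 ∧ t ≠ 0 := by
      by_cases ha : a = 0
      · exact ⟨b, c, hbc, fun h => hab (by rw [ha, h]), fun h => hac (by rw [ha, h])⟩
      · by_cases hb : b = 0
        · exact ⟨a, c, hac, ha, fun h => hbc (by rw [hb, h])⟩
        · exact ⟨a, b, hab, ha, hb⟩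
    obtain ⟨s, t, hst, hs, ht⟩ := key
    have hne : ∀ u : (T F q).ker, u ≠ 0 → ofKer u ≠ 1 := by
      intro u hu h
      apply hu
      apply Subtype.ext
      exact congrArg (fun z : H F q => z.1.2) h
    refine ⟨ofKer s, ofKer t, ?_, hne s hs, (invol_iff _).mpr rfl,
      hne t ht, (invol_iff _).mpr rfl⟩
    intro h
    apply hst
    apply Subtype.ext
    exact congrArg (fun z : H F q => z.1.2) h
  · refine ⟨(dHom (F := F) (q := q)).range, ?_, ?_⟩
    · haveI : IsCyclic (L F q) := inferInstance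
      exact isCyclic_of_surjective (dHom (F := F) (q := q)).rangeRestrict
        (dHom (F := F) (q := q)).rangeRestrict_surjective
    · intro x y hx hxx hy hyy
      have hx0 := (invol_iff x).mp hxx
      have hy0 := (invol_iff y).mp hyy
      have hxc : x.1.2 ≠ 0 := fun h => hx ((one_iff x hx0).mpr h)
      have hyc : y.1.2 ≠ 0 := fun h => hy ((one_iff y hy0).mpr h)
      have hxq := fix_of_invol x hx0
      have hyq := fix_of_invol y hy0
      obtain ⟨l, hl⟩ := exists_L (q := q) (y.1.2 / x.1.2) (div_ne_zero hyc hxc)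
        (by rw [div_pow, hxq, hyq])
      have hl2 : (l.1 : F) ^ 2 * x.1.2 = y.1.2 := by
        rw [hl]; field_simp
      refine ⟨⟨dHom l, l, rfl⟩, ?_, ?_⟩
      · apply H_ext
        · change (l.1 : F) * x.1.1 = y.1.1
          rw [hx0, hy0, mul_zero]
        · exact hl2
      · rintro ⟨_, l', rfl⟩ hk
        have hk2 : (dHom l' x).1.2 = y.1.2 := by
          rw [show dHom l' x = y from hk]
        have hk3 : (l'.1 : F) ^ 2 * x.1.2 = y.1.2 := hk2
        have hk4 : (l'.1 : F) ^ 2 = (l.1 : F) ^ 2 := by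
          apply mul_right_cancel₀ hxc
          rw [hk3, hl2]
        have hk5 : (l'.1 : F) = (l.1 : F) := sq_inj hk4
        have hk6 : l' = l := Subtype.ext (Units.ext hk5)
        rw [hk6]

/-! ### Invariance under isomorphism -/

theorem isSuzuki_of_equiv {X Y : Type*} [Group X] [Group Y] (e : X ≃* Y)
    (h : Cfsg.IsSuzukiTwoGroup Y) : Cfsg.IsSuzukiTwoGroup X := by
  obtain ⟨hfin, hp, ⟨a, b, hab⟩, ⟨u, v, huv, hu, huu, hv, hvv⟩, K, hK, hreg⟩ := h
  refine ⟨Finite.of_injective e e.injective, ?_, ?_, ?_, ?_⟩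
  · exact hp.of_injective e.toMonoidHom e.injective
  · refine ⟨e.symm a, e.symm b, ?_⟩
    intro h
    apply hab
    have := congrArg e h
    simpa using this
  · refine ⟨e.symm u, e.symm v, ?_, ?_, ?_, ?_, ?_⟩
    · intro h; exact huv (e.symm.injective h)
    · intro h; exact hu (e.symm.injective (by rw [h, map_one]))
    · rw [← map_mul, huu, map_one]
    · intro h; exact hv (e.symm.injective (by rw [h, map_one]))
    · rw [← map_mul, hvv, map_one]
  · let c : MulAut Y ≃* MulAut X := MulAut.congr e.symm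
    have hc : ∀ (k : MulAut Y) (x : X), (c k) x = e.symm (k (e x)) := fun k x => rfl
    refine ⟨K.map c.toMonoidHom, ?_, ?_⟩
    · haveI := hK
      exact isCyclic_of_surjective (c.toMonoidHom.subgroupMap K) (MonoidHom.subgroupMap_surjective _ _)
    · intro x y hx hxx hy hyy
      have hx' : e x ≠ 1 := fun h => hx (e.injective (by rw [h, map_one]))
      have hy' : e y ≠ 1 := fun h => hy (e.injective (by rw [h, map_one]))
      have hxx' : e x * e x = 1 := by rw [← map_mul, hxx, map_one]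
      have hyy' : e y * e y = 1 := by rw [← map_mul, hyy, map_one]
      obtain ⟨k, hk, huniq⟩ := hreg (e x) (e y) hx' hxx' hy' hyy'
      refine ⟨⟨c k.1, k.1, k.2, rfl⟩, ?_, ?_⟩
      · change (c k.1) x = y
        rw [hc, hk]; simp
      · rintro ⟨_, k', hk', rfl⟩ h1
        have h2 : k' (e x) = e y := by
          have h3 : (c k') x = y := h1
          rw [hc] at h3
          rw [← h3]; simp
        have h4 := huniq ⟨k', hk'⟩ h2
        apply Subtype.ext
        have h5 : k' = k.1 := congrArg Subtype.val h4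
        change c k' = c k.1
        rw [h5]

/-! ### Embedding into `PSU₃(q)` -/

/-- The composite homomorphism from the model to `PSU₃(q)`. -/
noncomputable def ψ (F : Type*) [Field F] [Fintype F] (q : ℕ) [Fact (Fintype.card F = q ^ 2)]
    [Fact ((2 : F) = 0)] : H F q →* Cfsg.PSU 3 F q :=
  (QuotientGroup.mk' (Subgroup.center (Cfsg.SU 3 F q))).comp ι

lemma ψ_injective {n : ℕ} (hq : q = 2 ^ n) : Function.Injective (ψ F q) := by
  rw [injective_iff_map_eq_one]
  intro x hx
  have hmem : ι x ∈ Subgroup.center (Cfsg.SU 3 F q) := (QuotientGroup.eq_one_iff _).mp hx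
  have hc := Cfsg.Agent.Lib.Classical.HermOrders.card_center_SU hf.out 3 (by norm_num)
  have hp : (ι x) ^ Nat.gcd 3 (q + 1) = 1 := by
    rw [← hc]
    have := pow_card_eq_one' (x := (⟨ι x, hmem⟩ : Subgroup.center (Cfsg.SU 3 F q)))
    exact congrArg Subtype.val this
  have hx1 : x ^ Nat.gcd 3 (q + 1) = 1 := by
    apply ι_injective
    rw [map_pow, hp, map_one]
  have hx2 : x ^ (2 ^ (n * 3)) = 1 := by
    rw [pow_mul, ← hq, ← card_H (F := F) (q := q)]
    exact pow_card_eq_one'
  have hcop : Nat.Coprime (Nat.gcd 3 (q + 1)) (2 ^ (n * 3)) := by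
    apply Nat.Coprime.pow_right
    apply Nat.Coprime.coprime_dvd_left (Nat.gcd_dvd_left 3 (q + 1))
    decide
  have h3 := orderOf_dvd_of_pow_eq_one hx1
  have h4 := orderOf_dvd_of_pow_eq_one hx2
  have h5 := Nat.Coprime.eq_one_of_dvd (Nat.Coprime.coprime_dvd_right h4 (Nat.Coprime.coprime_dvd_left h3 hcop)) (dvd_refl _)
  exact orderOf_eq_one_iff.mp h5

lemma card_PSU_split {n : ℕ} (hq : q = 2 ^ n) (hn : 1 ≤ n) :
    ∃ m, Odd m ∧ Nat.card (Cfsg.PSU 3 F q) = 2 ^ (n * 3) * m := by
  have h := Cfsg.Agent.Lib.Classical.HermOrders.card_PSU hf.out 3 (by norm_num)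
  simp only [Finset.prod_range_succ, Finset.prod_range_zero, one_mul] at h
  norm_num [Nat.even_iff] at h
  -- `q` is even
  have hq2 : Even q := by
    rw [hq]
    exact (Nat.even_pow.mpr ⟨even_two, by omega⟩)
  have hqpos : 1 ≤ q := by rw [hq]; exact Nat.one_le_two_pow
  obtain ⟨r, hr⟩ : Nat.gcd 3 (q + 1) ∣ q ^ 3 + 1 := by
    apply (Nat.gcd_dvd_right 3 (q + 1)).trans
    exact ⟨q ^ 2 - q + 1, by
      obtain ⟨s, rfl⟩ : ∃ s, q = s + 1 := ⟨q - 1, by omega⟩
      have : (s + 1) ^ 2 - (s + 1) + 1 = s ^ 2 + s + 1 := by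
        have : (s + 1) ^ 2 = s ^ 2 + s + (s + 1) := by ring
        omega
      rw [this]; ring⟩
  obtain ⟨t, ht⟩ : ∃ t, q ^ 2 = t + 1 := ⟨q ^ 2 - 1, by
    have : 1 ≤ q ^ 2 := Nat.one_le_pow _ _ hqpos
    omega⟩
  have hodd : Odd (q ^ 3 + 1) := by
    apply Even.add_one
    exact (Nat.even_pow.mpr ⟨hq2, by norm_num⟩)
  have hrodd : Odd r := by
    rw [hr] at hodd
    exact (Nat.odd_mul.mp hodd).2
  have htodd : Odd t := by
    have h2 : Even (t + 1) := by
      rw [← ht]
      exact (Nat.even_pow.mpr ⟨hq2, by norm_num⟩)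
    rcases Nat.even_or_odd t with h3 | h3
    · exact absurd h2 (by simpa [Nat.even_add_one] using h3)
    · exact h3
  refine ⟨t * r, htodd.mul hrodd, ?_⟩
  have hg : 0 < Nat.gcd 3 (q + 1) := Nat.gcd_pos_of_pos_left _ (by norm_num)
  have ht' : q ^ 2 - 1 = t := by omega
  rw [ht'] at h
  have e : Nat.gcd 3 (q + 1) * (q + 1) * Nat.card (Cfsg.PSU 3 F q) =
      Nat.gcd 3 (q + 1) * (q + 1) * (2 ^ (n * 3) * (t * r)) := by
    have : 2 ^ (n * 3) = q ^ 3 := by rw [hq, pow_mul]
    rw [this]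
    calc _ = Nat.gcd 3 (q + 1) * ((q + 1) * Nat.card (Cfsg.PSU 3 F q)) := by ring
      _ = _ := h
      _ = q ^ 3 * ((q + 1) * t * (Nat.gcd 3 (q + 1) * r)) := by rw [hr]
      _ = _ := by ring
  exact Nat.eq_of_mul_eq_mul_left (by positivity) e

theorem nonempty_equiv {n : ℕ} (hq : q = 2 ^ n) (hn : 1 ≤ n) (S : Sylow 2 (Cfsg.PSU 3 F q)) :
    Nonempty ((S : Subgroup (Cfsg.PSU 3 F q)) ≃* H F q) := by
  obtain ⟨m, hm, hcard⟩ := card_PSU_split (F := F) hq hn
  have hS : Nat.card S = 2 ^ (n * 3) := Cfsg.Agent.Lib.TwoFusion.SylowForms.card_sylow_of_eq S hm hcard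
  have hr : Nat.card (ψ F q).range = 2 ^ (n * 3) := by
    rw [Nat.card_congr (MonoidHom.ofInjective (ψ_injective hq)).toEquiv.symm, card_H, pow_mul, hq]
  have hp : IsPGroup 2 (ψ F q).range := IsPGroup.of_card hr
  obtain ⟨Q, hQ⟩ := hp.exists_le_sylow
  have hQc : Nat.card Q = 2 ^ (n * 3) := Cfsg.Agent.Lib.TwoFusion.SylowForms.card_sylow_of_eq Q hm hcard
  have hQe : (Q : Subgroup (Cfsg.PSU 3 F q)) = (ψ F q).range := by
    symm
    apply Subgroup.eq_of_le_of_card_ge hQ
    rw [hr, hQc]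
  exact ⟨((Sylow.equiv S Q).trans (MulEquiv.subgroupCongr hQe)).trans
    (MonoidHom.ofInjective (ψ_injective hq)).symm⟩

/-- The statement S1141. -/
theorem main {F : Type*} [Field F] [Fintype F] {n : ℕ} (hn : 2 ≤ n)
    (hF : Fintype.card F = (2 ^ n) ^ 2) (S : Sylow 2 (Cfsg.PSU 3 F (2 ^ n))) :
    Nat.card S = (2 ^ n) ^ 3 ∧ Nat.card (Subgroup.center ↥(S : Subgroup (Cfsg.PSU 3 F (2 ^ n)))) = 2 ^ n ∧
      Cfsg.IsSuzukiTwoGroup ↥(S : Subgroup (Cfsg.PSU 3 F (2 ^ n))) := by
  haveI : Fact (Fintype.card F = (2 ^ n) ^ 2) := ⟨hF⟩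
  haveI : Fact ((2 : F) = 0) := ⟨by
    have h : ringChar F = 2 := FiniteField.even_card_iff_char_two.mpr (by
      rw [hF]
      exact Nat.even_iff.mp (Nat.even_pow.mpr ⟨Nat.even_pow.mpr ⟨even_two, by omega⟩, by norm_num⟩))
    have h2 := ringChar.Nat.cast_ringChar (R := F)
    rw [h] at h2
    exact_mod_cast h2⟩
  obtain ⟨e⟩ := nonempty_equiv (F := F) (q := 2 ^ n) rfl (by omega) S
  refine ⟨?_, ?_, ?_⟩
  · rw [Nat.card_congr e.toEquiv, card_H]
  · rw [Nat.card_congr (Subgroup.centerCongr e).toEquiv, card_center_H]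
  · exact isSuzuki_of_equiv e (isSuzuki_H rfl hn)

end Cfsg.Agent.Lib.SuzukiTwo.PSU3
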